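import Mathlib
import Cfsg.Agent.Gp.PS1
import Cfsg.Agent.Transfer.Abelian
import Cfsg.Agent.Transfer.Focal

/-!
A strongly closed central subgroup of exponent `p` of a Sylow subgroup, in a group where the
centralizers of the elements of order `p` have normal `p`-complements.
-/

set_option autoImplicit false

namespace Cfsg.Agent.Puig

open Subgroup Cfsg.Agent.Char Cfsg.Agent.Block Cfsg.Agent.Transfer

variable {G : Type*} [Group G] [Finite G] {p : ℕ} [hp : Fact p.Prime]

theorem decomp (P : Sylow p G) {K : Subgroup G} (hPK : (P : Subgroup G) ≤ K)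
    (hK : HasNormalPComplement p K) {k : G} (hk : k ∈ K) :
    ∃ o ∈ K, ∃ t ∈ (P : Subgroup G), o * t = k ∧ ¬ p ∣ orderOf o ∧
      ∀ u ∈ K, ¬ p ∣ orderOf (o * u * o⁻¹ * u⁻¹) := by
  obtain ⟨o, ho, t, ht, e⟩ := exists_mul_eq_of_sylow (P.subtype hPK) ⟨k, hk⟩
  have key : ∀ a : K, a ∈ pResidual p K → ¬ p ∣ orderOf (a : G) := fun a ha => by
    rw [Subgroup.orderOf_coe]
    exact (Nat.Prime.coprime_iff_not_dvd hp.out).1 ((mem_pResidual_iff_coprime hK).1 ha).symm
  refine ⟨o, o.2, t, ht, congrArg Subtype.val e, key o ho, fun u hu => ?_⟩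
  have h1 : o * ((⟨u, hu⟩ : K) * o⁻¹ * (⟨u, hu⟩ : K)⁻¹) ∈ pResidual p K :=
    mul_mem ho (pResidual_normal.conj_mem _ (inv_mem ho) _)
  have := key _ h1
  simpa [mul_assoc] using this

theorem ctrl (P : Sylow p G) {K : Subgroup G} (hPK : (P : Subgroup G) ≤ K)
    (hK : HasNormalPComplement p K) {k : G} (hk : k ∈ K) :
    ∃ t ∈ (P : Subgroup G), ∀ u ∈ (P : Subgroup G), k * u * k⁻¹ ∈ (P : Subgroup G) →
      k * u * k⁻¹ = t * u * t⁻¹ := by
  obtain ⟨o, -, t, ht, rfl, -, h⟩ := decomp P hPK hK hk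
  refine ⟨t, ht, fun u hu hku => ?_⟩
  have h1 : t * u * t⁻¹ ∈ (P : Subgroup G) := mul_mem (mul_mem ht hu) (inv_mem ht)
  have h2 := eq_one_of_isPGroup_of_not_dvd hp.out P.isPGroup' (mul_mem hku (inv_mem h1)) (by
    convert h _ (hPK h1) using 3; group)
  exact mul_inv_eq_one.1 h2

theorem exists_conj_le (P : Sylow p G) {Q : Subgroup G} (hQ : IsPGroup p Q) :
    ∃ g : G, ∀ a ∈ Q, g * a * g⁻¹ ∈ (P : Subgroup G) := by
  obtain ⟨T, hT⟩ := hQ.exists_le_sylow
  obtain ⟨g, rfl⟩ := MulAction.exists_smul_eq G P T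
  refine ⟨g⁻¹, fun a ha => ?_⟩
  have h1 := hT ha
  rw [Sylow.coe_subgroup_smul, mem_pointwise_smul_iff_inv_smul_mem] at h1
  simpa using h1

theorem exists_ord_p {u : G} (hu : IsPGroup p (zpowers u)) (h1 : u ≠ 1) :
    ∃ x ∈ zpowers u, orderOf x = p := by
  obtain ⟨k, hk⟩ := exists_orderOf_eq_pow_of_mem hp.out hu (mem_zpowers u)
  have hd : p ∣ Nat.card (zpowers u) := by
    rw [Nat.card_zpowers, hk]
    refine dvd_pow_self p ?_
    rintro rfl
    exact h1 (orderOf_eq_one_iff.1 hk)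
  obtain ⟨x, hx⟩ := exists_prime_orderOf_dvd_card' p hd
  exact ⟨x, x.2, by rw [Subgroup.orderOf_coe, hx]⟩

/-- The centralizers of elements of order `p` have normal `p`-complements. -/
def HB (p : ℕ) (G : Type*) [Group G] : Prop :=
  ∀ x : G, orderOf x = p → HasNormalPComplement p (centralizer ({x} : Set G))

theorem hb_of (P : Sylow p G) (hb : ∀ x ∈ (P : Subgroup G), orderOf x = p →
    HasNormalPComplement p (centralizer ({x} : Set G))) : HB p G := by
  intro x hx
  obtain ⟨g, hg⟩ := exists_conj_le P (isPGroup_zpowers_of_orderOf (x := x) ⟨1, by rw [hx, pow_one]⟩)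
  have h1 := hb _ (hg x (mem_zpowers x)) (((MulAut.conj g).orderOf_eq x).trans hx)
  refine hasNormalPComplement_of_le ?_ (hasNormalPComplement_map (MulAut.conj g⁻¹).toMonoidHom h1)
  intro c hc
  refine ⟨g * c * g⁻¹, ?_, by simp [mul_assoc]⟩
  rw [SetLike.mem_coe, mem_centralizer_singleton_iff] at *
  calc g * c * g⁻¹ * (g * x * g⁻¹) = g * (c * x) * g⁻¹ := by group
    _ = _ := by rw [hc]; group

theorem HB.npc (h : HB p G) {u : G} (hu : IsPGroup p (zpowers u)) (h1 : u ≠ 1) :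
    HasNormalPComplement p (centralizer ({u} : Set G)) := by
  obtain ⟨x, ⟨k, rfl⟩, hx⟩ := exists_ord_p hu h1
  refine hasNormalPComplement_of_le (fun c hc => ?_) (h _ hx)
  rw [mem_centralizer_singleton_iff] at *
  exact (show Commute c u from hc).zpow_right k

omit hp in
theorem HB.sub [Fact p.Prime] (h : HB p G) (M : Subgroup G) : HB p M := by
  intro x hx
  have h1 := h x (by rw [Subgroup.orderOf_coe, hx])
  refine hasNormalPComplement_of_injective
    ((M.subtype.comp (centralizer ({x} : Set M)).subtype).codRestrict (centralizer ({(x : G)} : Set G))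
      fun c => ?_) ?_ h1
  · rw [mem_centralizer_singleton_iff]
    exact congrArg Subtype.val (mem_centralizer_singleton_iff.1 c.2)
  · intro a b e
    have e' := congrArg Subtype.val e
    exact Subtype.ext (Subtype.ext e')

/-- A `p'`-element normalizing `P` and fixing a nonidentity element of `P` centralizes `Z(P)`. -/
theorem HB.fpf (h : HB p G) (P : Sylow p G) {y u z : G} (hy : y ∈ normalizer ((P : Subgroup G) : Set G))
    (hyp : ¬ p ∣ orderOf y) (hu : u ∈ (P : Subgroup G)) (h1 : u ≠ 1) (hc : y * u = u * y)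
    (hz : z ∈ (P : Subgroup G)) (hzu : z * u = u * z) : y * z = z * y := by
  have hK := h.npc (P.isPGroup'.to_le (zpowers_le.2 hu)) h1
  set C := centralizer ({u} : Set G)
  have hyC : y ∈ C := mem_centralizer_singleton_iff.2 hc
  have hzC : z ∈ C := mem_centralizer_singleton_iff.2 hzu
  have h2 := mem_centralizer_of_hasNormalPComplement hK (Q := (P : Subgroup G).subgroupOf C)
    (P.isPGroup'.comap_subtype) (g := ⟨y, hyC⟩) (by
      rw [mem_normalizer_iff]
      intro a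
      exact mem_normalizer_iff.1 hy a) (by
      rw [← Subgroup.orderOf_coe]
      exact ((Nat.Prime.coprime_iff_not_dvd hp.out).2 hyp).symm)
  exact (congrArg Subtype.val (mem_centralizer_iff.1 h2 ⟨z, hzC⟩ hz)).symm

/-- The standing hypothesis. -/
structure Hyp {p : ℕ} (P : Sylow p G) (Z : Subgroup G) : Prop where
  le : Z ≤ P
  cent : (P : Subgroup G) ≤ centralizer (Z : Set G)
  pow : ∀ x ∈ Z, x ^ p = 1
  ne : Z ≠ ⊥
  sc : ∀ x ∈ Z, ∀ g : G, g * x * g⁻¹ ∈ (P : Subgroup G) → g * x * g⁻¹ ∈ Z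
  hb : HB p G

/-- Conjugate to an element of `Z`. -/
def InZ (Z : Subgroup G) (a : G) : Prop := ∃ g : G, g * a * g⁻¹ ∈ Z

omit [Finite G] in
theorem InZ.conj {Z : Subgroup G} {a : G} (h : InZ Z a) (g : G) : InZ Z (g * a * g⁻¹) := by
  obtain ⟨k, hk⟩ := h
  exact ⟨k * g⁻¹, by convert hk using 1; group⟩

omit [Finite G] in
theorem inZ_of_mem {Z : Subgroup G} {a : G} (h : a ∈ Z) : InZ Z a := ⟨1, by simpa using h⟩

namespace Hyp

variable {P : Sylow p G} {Z : Subgroup G} (h : Hyp P Z)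
include h

omit [Finite G] hp in
theorem comm {x u : G} (hx : x ∈ Z) (hu : u ∈ (P : Subgroup G)) : x * u = u * x :=
  mem_centralizer_iff.1 (h.cent hu) x hx

omit [Finite G] hp in
theorem exists_ne : ∃ x ∈ Z, x ≠ 1 := by
  obtain ⟨⟨x, hx⟩, h1⟩ := ne_bot_iff_exists_ne_one.1 h.ne
  exact ⟨x, hx, fun e => h1 (Subtype.ext e)⟩

omit [Finite G] in
theorem ord {x : G} (hx : x ∈ Z) (h1 : x ≠ 1) : orderOf x = p := orderOf_eq_prime (h.pow x hx) h1

omit [Finite G] hp in
theorem le_cz {x : G} (hx : x ∈ Z) : (P : Subgroup G) ≤ centralizer ({x} : Set G) := fun _ hu =>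
  mem_centralizer_singleton_iff.2 (h.comm hx hu).symm

theorem npcZ : HasNormalPComplement p (centralizer (Z : Set G)) := by
  obtain ⟨x, hx, h1⟩ := h.exists_ne
  exact hasNormalPComplement_of_le (centralizer_le (Set.singleton_subset_iff.2 hx))
    (h.hb x (h.ord hx h1))

omit [Finite G] hp in
theorem conj_mem {n x : G} (hn : n ∈ normalizer ((P : Subgroup G) : Set G)) (hx : x ∈ Z) :
    n * x * n⁻¹ ∈ Z := h.sc x hx n ((mem_normalizer_iff.1 hn x).1 (h.le hx))

omit [Finite G] hp in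
theorem mem_of_inZ {a : G} (ha : InZ Z a) (haP : a ∈ (P : Subgroup G)) : a ∈ Z := by
  obtain ⟨g, hg⟩ := ha
  have := h.sc _ hg g⁻¹ (by simpa [mul_assoc] using haP)
  simpa [mul_assoc] using this

omit hp in
theorem weak : IsWeaklyClosed Z (P : Subgroup G) := by
  refine ⟨h.le, fun g hg => eq_of_le_of_card_ge ?_ ?_⟩
  · rintro _ ⟨x, hx, rfl⟩
    exact h.sc x hx g (hg ⟨x, hx, rfl⟩)
  · rw [card_map_of_injective (MulAut.conj g).injective]

/-- An element of `N(P)` fixing a nonidentity element of `Z` acts on `P` as an element of `P`. -/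
theorem inner {n x : G} (hn : n ∈ normalizer ((P : Subgroup G) : Set G)) (hx : x ∈ Z) (h1 : x ≠ 1)
    (hc : n * x = x * n) : ∃ t ∈ (P : Subgroup G), t⁻¹ * n ∈ centralizer ((P : Subgroup G) : Set G) := by
  obtain ⟨t, ht, e⟩ := ctrl P (h.le_cz hx) (h.hb x (h.ord hx h1)) (mem_centralizer_singleton_iff.2 hc)
  refine ⟨t, ht, mem_centralizer_iff.2 fun u hu => ?_⟩
  have := e u hu ((mem_normalizer_iff.1 hn u).1 hu)
  calc u * (t⁻¹ * n) = t⁻¹ * (t * u * t⁻¹) * n := by group
    _ = _ := by rw [← this]; group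

theorem semireg {n x : G} (hn : n ∈ normalizer ((P : Subgroup G) : Set G)) (hx : x ∈ Z) (h1 : x ≠ 1)
    (hc : n * x = x * n) : n ∈ centralizer (Z : Set G) := by
  obtain ⟨t, ht, e⟩ := h.inner hn hx h1 hc
  have := mul_mem (h.cent ht) (centralizer_le h.le e)
  simpa using this

theorem frattini {n : G} (hn : n ∈ normalizer (Z : Set G)) :
    ∃ c ∈ centralizer (Z : Set G), ∃ m ∈ normalizer ((P : Subgroup G) : Set G), n = c * m := by
  set C := centralizer (Z : Set G)
  have hle : ((n • P : Sylow p G) : Subgroup G) ≤ C := by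
    intro a ha
    rw [Sylow.coe_subgroup_smul, mem_pointwise_smul_iff_inv_smul_mem] at ha
    refine mem_centralizer_iff.2 fun x hx => ?_
    have h1 := h.comm ((mem_normalizer_iff.1 (inv_mem hn) x).1 hx) ha
    simp only [MulAut.smul_def, MulAut.conj_inv_apply, inv_inv] at h1
    calc x * a = n * (n⁻¹ * x * n * (n⁻¹ * a * n)) * n⁻¹ := by group
      _ = _ := by rw [h1]; group
  obtain ⟨c, hc⟩ := MulAction.exists_smul_eq C (P.subtype h.cent) ((n • P).subtype hle)
  rw [Sylow.smul_subtype] at hc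
  have hc := Sylow.subtype_injective hc
  refine ⟨c, c.2, (c : G)⁻¹ * n, ?_, by group⟩
  refine Sylow.smul_eq_iff_mem_normalizer.1 ?_
  rw [mul_smul, ← hc]
  exact inv_smul_smul (c : G) P

/-- The normalizer of `P` controls fusion in `P`. -/
theorem fus {u g : G} (hu : u ∈ (P : Subgroup G)) (hg : g * u * g⁻¹ ∈ (P : Subgroup G)) :
    ∃ n ∈ normalizer ((P : Subgroup G) : Set G), n * u * n⁻¹ = g * u * g⁻¹ := by
  obtain ⟨v, hv, e⟩ := control_of_isWeaklyClosed' (le_centralizer_iff.1 h.cent) h.weak hu hg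
  obtain ⟨c, hc, m, hm, rfl⟩ := h.frattini hv
  obtain ⟨t, ht, e'⟩ := ctrl P h.cent h.npcZ hc
  have h1 : c * (m * u * m⁻¹) * c⁻¹ = g * u * g⁻¹ := by rw [← e]; group
  refine ⟨t * m, mul_mem (le_normalizer ht) hm, ?_⟩
  rw [← h1, e' _ ((mem_normalizer_iff.1 hm u).1 hu) (h1 ▸ hg)]
  group

theorem npc_of_norm (hn : normalizer (Z : Set G) ≤ centralizer (Z : Set G)) :
    HasNormalPComplement p G :=
  hasNormalPComplement_of_control P h.cent (fun _ hx _ hg => by
    obtain ⟨v, hv, e⟩ := control_of_isWeaklyClosed' (le_centralizer_iff.1 h.cent) h.weak hx hg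
    exact ⟨v, hn hv, e⟩) h.npcZ

theorem comm_of {Q : Subgroup G} (hQ : IsPGroup p Q) {a b : G} (ha : InZ Z a) (haQ : a ∈ Q)
    (hb : b ∈ Q) : a * b = b * a := by
  obtain ⟨g, hg⟩ := exists_conj_le P hQ
  have h1 := h.comm (h.mem_of_inZ (ha.conj g) (hg a haQ)) (hg b hb)
  calc a * b = g⁻¹ * (g * a * g⁻¹ * (g * b * g⁻¹)) * g := by group
    _ = _ := by rw [h1]; group

theorem mul_of {Q : Subgroup G} (hQ : IsPGroup p Q) {a b : G} (ha : InZ Z a) (haQ : a ∈ Q)
    (hb : InZ Z b) (hbQ : b ∈ Q) : InZ Z (a * b) := by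
  obtain ⟨g, hg⟩ := exists_conj_le P hQ
  refine ⟨g, ?_⟩
  have := mul_mem (h.mem_of_inZ (ha.conj g) (hg a haQ)) (h.mem_of_inZ (hb.conj g) (hg b hbQ))
  convert this using 1; group

omit [Finite G] hp in
theorem pow_of {a : G} (ha : InZ Z a) : a ^ p = 1 := by
  obtain ⟨g, hg⟩ := ha
  have := h.pow _ hg
  rwa [conj_pow, mul_inv_eq_one, mul_eq_left] at this

end Hyp

end Cfsg.Agent.Puig
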