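import Mathlib
import Cfsg.Agent.Puig.A

/-!
Products of two conjugates of elements of `Z`, and counting conjugates.
-/

set_option autoImplicit false

namespace Cfsg.Agent.Puig

open Subgroup Cfsg.Agent.Char Cfsg.Agent.Block Cfsg.Agent.Transfer

variable {G : Type*} [Group G] [Finite G] {p : ℕ} [hp : Fact p.Prime]

theorem pg_of_pow {K : Type*} [Group K] {a : K} (ha : a ^ p = 1) : IsPGroup p (zpowers a) := by
  obtain ⟨k, -, hk⟩ := (Nat.dvd_prime_pow hp.out (m := 1) (i := orderOf a)).1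
    (by rw [pow_one]; exact orderOf_dvd_of_pow_eq_one ha)
  exact isPGroup_zpowers_of_orderOf ⟨k, hk⟩

theorem card_cls (N : Subgroup G) (u : G) :
    Nat.card {w // ∃ n ∈ N, n * u * n⁻¹ = w} * Nat.card (N ⊓ centralizer ({u} : Set G) : Subgroup G) =
      Nat.card N := by
  classical
  letI : MulAction N G := MulAction.compHom G ((MulAut.conj (G := G)).comp N.subtype)
  have h1 := Nat.card_congr (MulAction.orbitProdStabilizerEquivGroup N u)
  rw [Nat.card_prod] at h1
  rw [← h1]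
  congr 1
  · refine Nat.card_congr (Equiv.subtypeEquivRight fun w => ?_)
    exact ⟨fun ⟨n, hn, e⟩ => ⟨⟨n, hn⟩, e⟩, fun ⟨n, e⟩ => ⟨n, n.2, e⟩⟩
  · rw [← card_map_of_injective (K := MulAction.stabilizer N u) N.subtype_injective]
    congr 2
    ext a
    constructor
    · rintro ⟨h1, h2⟩
      refine ⟨⟨a, h1⟩, ?_, rfl⟩
      change a * u * a⁻¹ = u
      rw [mem_centralizer_singleton_iff.1 h2, mul_inv_cancel_right]
    · rintro ⟨n, hn, rfl⟩
      refine ⟨n.2, mem_centralizer_singleton_iff.2 ?_⟩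
      have : (n : G) * u * (n : G)⁻¹ = u := hn
      exact mul_inv_eq_iff_eq_mul.1 this

namespace Hyp

variable {P : Sylow p G} {Z : Subgroup G} (h : Hyp P Z)
include h

theorem pair {a b : G} (ha : InZ Z a) (hb : InZ Z b)
    (hs : IsPSolvable p (closure ({a, b} : Set G))) :
    (∀ w, IsPPart p (a * b) w → InZ Z w) ∧
      (¬ p ∣ orderOf (a * b) → ¬ p ∣ orderOf (a * b⁻¹) → b * b = 1) := by
  set H := closure ({a, b} : Set G) with hH
  let a' : H := ⟨a, subset_closure (by simp)⟩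
  let b' : H := ⟨b, subset_closure (by simp)⟩
  let π := QuotientGroup.mk' (pPrimeCore p H)
  have hπ : Function.Surjective π := QuotientGroup.mk'_surjective _
  have hs' := Core.IsPSolvable.quotient hs (pPrimeCore p H)
  have hO := Core.pPrimeCore_quotient_pPrimeCore (G := H) p
  set Q := pCore p (H ⧸ pPrimeCore p H)
  have hcen : ∀ x : H, InZ Z (x : G) → π x ∈ centralizer (Q : Set _) := by
    intro x hx
    obtain ⟨S, hS⟩ := (pg_of_pow (a := x) (Subtype.ext (h.pow_of hx))).exists_le_sylow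
    refine mem_centralizer_iff.2 fun y hy => ?_
    obtain ⟨s, hs, rfl⟩ := Core.pCore_le_sylow (S.mapSurjective hπ) hy
    rw [← map_mul, ← map_mul]
    congr 1
    exact Subtype.ext (h.comm_of (S.isPGroup'.map H.subtype) hx ⟨x, hS (mem_zpowers x), rfl⟩
      ⟨s, hs, rfl⟩).symm
  have hQ : ∀ x : H, InZ Z (x : G) → π x ∈ Q := fun x hx =>
    Core.IsPSolvable.centralizer_pCore_le hs' hO (hcen x hx)
  have htop : ∀ x : H, π x ∈ Q := by
    intro x
    have h1 : H ≤ (Q.comap π).map H.subtype := by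
      refine (closure_le _).2 ?_
      rintro _ (rfl | rfl)
      · exact ⟨a', hQ a' ha, rfl⟩
      · exact ⟨b', hQ b' hb, rfl⟩
    obtain ⟨y, hy, e⟩ := h1 x.2
    exact (Subtype.ext e : y = x) ▸ hy
  have hinj : ∀ x : H, IsPGroup p (zpowers x) → π x = 1 → x = 1 := fun x hx e =>
    eq_one_of_isPGroup_of_not_dvd hp.out hx (mem_zpowers x) fun hd =>
      Core.not_dvd_card_pPrimeCore hp.out (hd.trans
        (Subgroup.orderOf_dvd_natCard _ ((QuotientGroup.eq_one_iff x).1 e)))
  have hreg : ∀ x : H, ¬ p ∣ orderOf (x : G) → π x = 1 := fun x hx =>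
    eq_one_of_isPGroup_of_not_dvd hp.out (Core.pCore_isPGroup p) (htop x) fun hd =>
      hx (by rw [Subgroup.orderOf_coe]; exact hd.trans (orderOf_map_dvd _ _))
  constructor
  · intro w hw
    have hwH : w ∈ H := pPart_mem hp.out hw (a' * b').2
    let w' : H := ⟨w, hwH⟩
    have hw1 : π (w'⁻¹ * (a' * b')) = 1 := hreg _ (pPart_regular hw)
    have hw' : IsPPart p (a' * b') w' := (pPart_coe_iff hp.out).1 hw
    obtain ⟨S, hS⟩ := (pPart_isPGroup hw').exists_le_sylow
    have hmv : ∀ x : H, InZ Z (x : G) → ∃ y ∈ (S : Subgroup H), InZ Z (y : G) ∧ π y = π x := by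
      intro x hx
      obtain ⟨g, hg⟩ := exists_conj_le S (pg_of_pow (a := x) (Subtype.ext (h.pow_of hx)))
      refine ⟨_, hg x (mem_zpowers x), hx.conj g, ?_⟩
      rw [map_mul, map_mul, mem_centralizer_iff.1 (hcen x hx) _ (htop g), map_inv,
        mul_inv_cancel_right]
    obtain ⟨x, hx, hx1, hx2⟩ := hmv a' ha
    obtain ⟨y, hy, hy1, hy2⟩ := hmv b' hb
    have h1 : w'⁻¹ * (x * y) = 1 := by
      refine hinj _ (S.isPGroup'.to_le (zpowers_le.2
        (mul_mem (inv_mem (hS (mem_zpowers _))) (mul_mem hx hy)))) ?_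
      rw [← hw1]; simp only [map_mul, hx2, hy2]
    have h2 : w = x * y := congrArg Subtype.val (inv_mul_eq_one.1 h1)
    rw [h2]
    exact h.mul_of (S.isPGroup'.map H.subtype) hx1 ⟨x, hx, rfl⟩ hy1 ⟨y, hy, rfl⟩
  · intro h1 h2
    have h3 := hreg (a' * b') h1
    have h4 := hreg (a' * b'⁻¹) h2
    rw [map_mul] at h3 h4
    have h5 : π (b' * b') = 1 := by
      rw [map_mul]
      nth_rewrite 2 [mul_left_cancel (h3.trans h4.symm)]
      simp
    have h6 : b' ^ p = 1 := Subtype.ext (h.pow_of hb)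
    exact congrArg Subtype.val (hinj _ (pg_of_pow (by rw [← sq, ← pow_mul, mul_comm, pow_mul, h6,
      one_pow])) h5)

end Hyp

/-- The number of conjugates of an element of `Z`. -/
noncomputable def ee (P : Sylow p G) (Z : Subgroup G) : ℕ :=
  (centralizer (Z : Set G)).relIndex (normalizer ((P : Subgroup G) : Set G))

omit hp in
theorem ee_mul (P : Sylow p G) (Z : Subgroup G) :
    ee P Z * Nat.card (normalizer ((P : Subgroup G) : Set G) ⊓ centralizer (Z : Set G) : Subgroup G) =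
      Nat.card (normalizer ((P : Subgroup G) : Set G)) := by
  rw [ee, relIndex, mul_comm, inf_comm, ← card_subgroupOf_eq, card_mul_index]

namespace Hyp

variable {P : Sylow p G} {Z : Subgroup G} (h : Hyp P Z)
include h

theorem isConj_iff {u w : G} (hu : u ∈ (P : Subgroup G)) :
    (w ∈ (P : Subgroup G) ∧ IsConj u w) ↔
      ∃ n ∈ normalizer ((P : Subgroup G) : Set G), n * u * n⁻¹ = w := by
  constructor
  · rintro ⟨hw, hc⟩
    obtain ⟨g, rfl⟩ := _root_.isConj_iff.1 hc
    exact h.fus hu hw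
  · rintro ⟨n, hn, rfl⟩
    exact ⟨(mem_normalizer_iff.1 hn u).1 hu, _root_.isConj_iff.2 ⟨n, rfl⟩⟩

theorem card_conj {x : G} (hx : InZ Z x) (h1 : x ≠ 1) :
    Nat.card {u // (u ∈ Z ∧ u ≠ 1) ∧ IsConj u x} = ee P Z := by
  obtain ⟨g, hg⟩ := hx
  have hg1 : g * x * g⁻¹ ≠ 1 := by simpa using h1
  have h2 := card_cls (normalizer ((P : Subgroup G) : Set G)) (g * x * g⁻¹)
  have h3 : normalizer ((P : Subgroup G) : Set G) ⊓ centralizer ({g * x * g⁻¹} : Set G) =
      normalizer ((P : Subgroup G) : Set G) ⊓ centralizer (Z : Set G) :=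
    le_antisymm (fun n hn => ⟨hn.1, h.semireg hn.1 hg hg1 (mem_centralizer_singleton_iff.1 hn.2)⟩)
      (inf_le_inf_left _ (centralizer_le (Set.singleton_subset_iff.2 hg)))
  rw [h3, ← ee_mul P Z] at h2
  rw [← Nat.eq_of_mul_eq_mul_right Nat.card_pos h2]
  refine Nat.card_congr (Equiv.subtypeEquivRight fun w => ?_)
  have h4 : IsConj x (g * x * g⁻¹) := _root_.isConj_iff.2 ⟨g, rfl⟩
  rw [← h.isConj_iff (h.le hg)]
  constructor
  · rintro ⟨⟨hw, -⟩, hc⟩
    exact ⟨h.le hw, (hc.trans h4).symm⟩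
  · rintro ⟨hw, hc⟩
    obtain ⟨k, rfl⟩ := _root_.isConj_iff.1 hc
    exact ⟨⟨h.sc _ hg k hw, by simpa using h1⟩, (h4.trans hc).symm⟩

theorem pow_le {u : G} (hu : u ∈ (P : Subgroup G)) :
    p ^ (Nat.card (centralizer ({u} : Set G))).factorization p ≤
      Nat.card ((P : Subgroup G) ⊓ centralizer ({u} : Set G) : Subgroup G) := by
  set C := centralizer ({u} : Set G)
  obtain ⟨S⟩ : Nonempty (Sylow p C) := inferInstance
  have huC : u ∈ C := mem_centralizer_singleton_iff.2 rfl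
  have h1 : IsPGroup p (((S : Subgroup C).map C.subtype) ⊔ zpowers u : Subgroup G) := by
    refine (S.isPGroup'.map C.subtype).to_sup_of_normal_right'
      (P.isPGroup'.to_le (zpowers_le.2 hu)) ?_
    refine (map_subtype_le _).trans (le_trans ?_ (centralizer_le_normalizer _))
    intro c hc
    refine mem_centralizer_iff.2 ?_
    rintro _ ⟨k, rfl⟩
    exact ((show Commute c u from mem_centralizer_singleton_iff.1 hc).zpow_right k).eq.symm
  obtain ⟨g, hg⟩ := exists_conj_le P h1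
  obtain ⟨n, hn, e⟩ := h.fus hu (hg u (mem_sup_right (mem_zpowers u)))
  rw [← S.card_eq_multiplicity]
  refine Nat.card_le_card_of_injective (fun s : S =>
    (⟨n⁻¹ * g * (s : C) * (n⁻¹ * g)⁻¹, ?_, ?_⟩ : ((P : Subgroup G) ⊓ C : Subgroup G))) ?_
  · have := (mem_normalizer_iff.1 (inv_mem hn) _).1 (hg _ (mem_sup_left ⟨s, s.2, rfl⟩))
    rw [mul_inv_rev, ← mul_assoc, mul_assoc n⁻¹, mul_assoc n⁻¹]
    exact this
  · have h2 : n⁻¹ * g ∈ C := mem_centralizer_singleton_iff.2 (by
      calc n⁻¹ * g * u = n⁻¹ * (g * u * g⁻¹) * g := by group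
        _ = _ := by rw [← e]; group)
    exact C.mul_mem (C.mul_mem h2 (s : C).2) (C.inv_mem h2)
  · intro s t e'
    have := congrArg Subtype.val e'
    simp only [mul_left_inj, mul_right_inj] at this
    exact Subtype.ext (Subtype.ext this)

theorem card_mul_le {u : G} (hu : u ∈ (P : Subgroup G)) :
    Nat.card {w // w ∈ (P : Subgroup G) ∧ IsConj u w} *
      p ^ (Nat.card (centralizer ({u} : Set G))).factorization p ≤
      ee P Z * Nat.card (P : Subgroup G) := by
  set N := normalizer ((P : Subgroup G) : Set G)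
  set C := centralizer ({u} : Set G)
  obtain ⟨x, hx, hx1⟩ := h.exists_ne
  have h1 : ∀ t : (N ⊓ centralizer (Z : Set G) : Subgroup G), ∃ s ∈ (P : Subgroup G),
      s⁻¹ * t ∈ centralizer ((P : Subgroup G) : Set G) := fun t =>
    h.inner t.2.1 hx hx1 (mem_centralizer_iff.1 t.2.2 x hx).symm
  choose s hs hs' using h1
  have h2 := Nat.card_le_card_of_injective (β := ↥(P : Subgroup G) × ↥(N ⊓ C))
    (fun a : ↥(N ⊓ centralizer (Z : Set G)) × ↥((P : Subgroup G) ⊓ C) =>
      (⟨s a.1 * (a.2 : G)⁻¹, mul_mem (hs _) (inv_mem (mem_inf.1 a.2.2).1)⟩,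
        ⟨a.2 * ((s a.1)⁻¹ * a.1), mem_inf.2 ⟨mul_mem (le_normalizer (mem_inf.1 a.2.2).1)
          (centralizer_le_normalizer _ (hs' _)), mul_mem (mem_inf.1 a.2.2).2
          (centralizer_le (Set.singleton_subset_iff.2 hu) (hs' _))⟩⟩)) (by
      rintro ⟨t, c⟩ ⟨t', c'⟩ e
      have e1 : s t * (c : G)⁻¹ = s t' * (c' : G)⁻¹ := congrArg (fun z => (z.1 : G)) e
      have e2 : c * ((s t)⁻¹ * t) = c' * ((s t')⁻¹ * t') := congrArg (fun z => (z.2 : G)) e
      obtain rfl : t = t' := Subtype.ext (by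
        calc (t : G) = s t * (c : G)⁻¹ * (c * ((s t)⁻¹ * t)) := by group
          _ = _ := by rw [e1, e2]; group)
      rw [mul_right_inj, inv_inj] at e1
      rw [Subtype.ext e1])
  rw [Nat.card_prod, Nat.card_prod] at h2
  have h3 := card_cls N u
  rw [← Nat.card_congr (Equiv.subtypeEquivRight fun w => h.isConj_iff hu), ← ee_mul P Z] at h3
  have h4 := h.pow_le hu
  refine Nat.le_of_mul_le_mul_right ?_ (Nat.card_pos (α := (N ⊓ C : Subgroup G)))
  rw [mul_right_comm, h3, mul_assoc, mul_assoc]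
  exact Nat.mul_le_mul_left _ ((Nat.mul_le_mul_left _ h4).trans h2)

end Hyp

end Cfsg.Agent.Puig
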