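import Mathlib
import Cfsg.Agent.Puig.B
import Cfsg.Agent.Char.Constit

/-!
Bounds for the restriction to a Sylow subgroup of a character of the principal block.
-/

set_option autoImplicit false

namespace Cfsg.Agent.Puig

open Subgroup Cfsg.Agent.Char Cfsg.Agent.Block Cfsg.Agent.Transfer
open scoped ComplexConjugate

theorem norm_lower {X ι : Type*} [Group X] [Fintype X] [Finite ι] {Y : Subgroup X} [Fintype Y]
    (hY : Y ≤ center X) {f : X → ℂ} (hf : IsCharacter X f) (α : ι → X ≃* X)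
    (h1 : ∀ i x, f (α i x) = f x) (h2 : ∀ i, ∀ y ∈ Y, α i y ∈ Y)
    (h3 : ∀ i j, ∀ y ∈ Y, y ≠ 1 → α i y = α j y → i = j) (h4 : ∃ y ∈ Y, f y ≠ f 1) :
    ∃ m : ℕ, ∑ y : Y, f y = Nat.card Y * m ∧
      (Nat.card X * Nat.card ι + Nat.card Y * m ^ 2 : ℝ) ≤ ∑ x, ‖f x‖ ^ 2 := by
  classical
  haveI : Y.Normal := ⟨fun y hy g => by
    rw [mem_center_iff.1 (hY hy) g, mul_inv_cancel_right]; exact hy⟩
  obtain ⟨a, ha, hfa⟩ := Constit.isChar_expand_nat hf
  let A : IrrCharacter X → Prop := fun θ => Y ≤ charKer (θ : X → ℂ)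
  have hA : ∀ θ, A θ → ∀ y ∈ Y, (θ : X → ℂ) y = (θ : X → ℂ) 1 := fun θ h y hy =>
    (mem_charKer_iff (irr_isChar θ)).1 (h hy)
  let c : IrrCharacter X → ℕ := fun θ => if A θ then a θ else 0
  set f1 : X → ℂ := ∑ θ, (c θ : ℂ) • (θ : X → ℂ) with hf1
  have hf1Y : ∀ y ∈ Y, f1 y = f1 1 := fun y hy => by
    simp only [hf1, Finset.sum_apply, Pi.smul_apply, smul_eq_mul]
    refine Finset.sum_congr rfl fun θ _ => ?_
    by_cases h : A θ
    · rw [hA θ h y hy]
    · simp [c, h]
  obtain ⟨m, hm⟩ := isChar_degree (isChar_sum Finset.univ fun θ _ =>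
    isChar_natCast_smul (c θ) (irr_isChar θ))
  rw [← hf1] at hm
  have hsum : ∑ y : Y, f y = ∑ y : Y, f1 y := by
    conv_lhs => rw [hfa]
    simp only [hf1, Finset.sum_apply, Pi.smul_apply, smul_eq_mul]
    rw [Finset.sum_comm, Finset.sum_comm (s := Finset.univ (α := Y))]
    refine Finset.sum_congr rfl fun θ _ => ?_
    rw [← Finset.mul_sum, ← Finset.mul_sum]
    by_cases h : A θ
    · simp [c, h]
    · rw [isIrr_sum_normal_eq_zero Y θ.2 h]; simp
  refine ⟨m, ?_, ?_⟩
  · rw [hsum, Finset.sum_congr rfl fun (y : Y) _ => hf1Y y y.2, hm]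
    simp [Nat.card_eq_fintype_card]
  have hX : (0 : ℝ) < Nat.card X := by exact_mod_cast Nat.card_pos
  have n1 : ∑ x, ‖f x‖ ^ 2 = Nat.card X * ∑ θ, (a θ : ℝ) ^ 2 := by
    have := classInner_self_re_eq_sum (isChar_classFun hf)
    rw [classInner_self_re] at this
    simp only [ha, Complex.norm_natCast] at this
    rw [← this]; field_simp
  have n2 : ∑ x, ‖f1 x‖ ^ 2 = Nat.card X * ∑ θ, (c θ : ℝ) ^ 2 := by
    have := classInner_self_re_eq_sum (classFun_sum_smul_irr Finset.univ fun θ => (c θ : ℂ))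
    rw [classInner_self_re] at this
    simp only [classInner_sum_univ_smul_irr, Complex.norm_natCast] at this
    rw [← this]; field_simp; rfl
  have n3 : (Nat.card Y * m ^ 2 : ℝ) ≤ ∑ x, ‖f1 x‖ ^ 2 := by
    have : ∑ y : Y, ‖f1 y‖ ^ 2 = Nat.card Y * m ^ 2 := by
      rw [Finset.sum_congr rfl fun y _ => by rw [hf1Y y y.2, hm]]
      simp [Nat.card_eq_fintype_card]
    rw [← this, ← Finset.sum_subtype (Finset.univ.filter (· ∈ Y)) (by simp) fun x => ‖f1 x‖ ^ 2]
    exact Finset.sum_le_sum_of_subset_of_nonneg (Finset.subset_univ _) fun _ _ _ => by positivity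
  obtain ⟨θ, hθ, hθa⟩ : ∃ θ, ¬ A θ ∧ a θ ≠ 0 := by
    by_contra hn
    push Not at hn
    obtain ⟨y, hy, hy1⟩ := h4
    have : f = f1 := by
      rw [hfa, hf1]
      refine Finset.sum_congr rfl fun θ _ => ?_
      by_cases h : A θ
      · simp [c, h]
      · simp [c, h, hn θ h]
    exact hy1 (this ▸ hf1Y y hy)
  let F : ι → IrrCharacter X := fun i => ⟨fun x => (θ : X → ℂ) (α i x), isIrr_comp_equiv _ θ.2⟩
  have hsurj : ∀ g : X → X, (∀ y ∈ Y, g y ∈ Y) → (∀ y ∈ Y, ∀ y' ∈ Y, g y = g y' → y = y') →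
      ∀ v ∈ Y, ∃ y ∈ Y, g y = v := fun g hg hi v hv => by
    obtain ⟨y, hy⟩ := Finite.surjective_of_injective (f := fun y : Y => (⟨g y, hg y y.2⟩ : Y))
      (fun y y' e => Subtype.ext (hi _ y.2 _ y'.2 (congrArg Subtype.val e))) ⟨v, hv⟩
    exact ⟨y, y.2, congrArg Subtype.val hy⟩
  have hF1 : ∀ i, ¬ A (F i) := fun i h => hθ fun v hv => by
    obtain ⟨y, hy, rfl⟩ := hsurj (α i) (h2 i) (fun _ _ _ _ e => (α i).injective e) v hv
    have := hA _ h y hy
    simp only [F, map_one] at this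
    exact (mem_charKer_iff (irr_isChar θ)).2 this
  have hF2 : ∀ i, a (F i) = a θ := fun i => by
    have := classInner_comp_equiv (α i) f θ
    simp only [h1] at this
    exact_mod_cast (ha (F i)).symm.trans (this.trans (ha θ))
  have hF3 : Function.Injective F := fun i j e => by
    by_contra hij
    have e' : ∀ x, (θ : X → ℂ) (α i x) = (θ : X → ℂ) (α j x) := fun x =>
      congrFun (congrArg Subtype.val e) x
    refine hθ fun v hv => ?_
    obtain ⟨y, hy, rfl⟩ := hsurj (fun y => α i y * (α j y)⁻¹)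
      (fun y hy => mul_mem (h2 i y hy) (inv_mem (h2 j y hy))) (fun y hy y' hy' e => by
        by_contra hn
        refine hij (h3 i j (y'⁻¹ * y) (mul_mem (inv_mem hy') hy) (by rwa [Ne, inv_mul_eq_one, eq_comm]) ?_)
        simp only [map_mul, map_inv] at e ⊢
        rw [inv_mul_eq_iff_eq_mul, ← mul_assoc, ← e, inv_mul_cancel_right]) v hv
    refine (mem_charKer_iff (irr_isChar θ)).2 (mul_right_cancel₀ (irr_one_ne_zero θ) ?_)
    rw [mul_of_mem_charCenter (irr_isChar θ) (center_le_charCenter θ.2 (hY (h2 i y hy))), e',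
      ← mul_of_mem_charCenter (irr_isChar θ) (center_le_charCenter θ.2 (hY (h2 j y hy))),
      mul_inv_cancel]
  have n4 : (Nat.card ι : ℝ) + ∑ θ, (c θ : ℝ) ^ 2 ≤ ∑ θ, (a θ : ℝ) ^ 2 := by
    have := Fintype.ofFinite ι
    have e1 : (Nat.card ι : ℝ) = ∑ θ, if θ ∈ Finset.univ.image F then (1 : ℝ) else 0 := by
      rw [Finset.sum_boole, Finset.filter_mem_eq_inter, Finset.univ_inter,
        Finset.card_image_of_injective _ hF3, Finset.card_univ, Nat.card_eq_fintype_card]
    rw [e1, ← Finset.sum_add_distrib]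
    refine Finset.sum_le_sum fun ψ _ => ?_
    split_ifs with h
    · obtain ⟨i, -, rfl⟩ := Finset.mem_image.1 h
      have : (1 : ℝ) ≤ a θ := by exact_mod_cast Nat.pos_of_ne_zero hθa
      simp only [c, hF1 i, if_false, hF2]
      push_cast
      nlinarith
    · simp only [c]
      split_ifs <;> simp
  rw [n1]
  nlinarith

variable {G : Type*} [Group G] [Finite G] {p : ℕ} [hp : Fact p.Prime] {M : Ideal AlgInt}

namespace Hyp

variable {P : Sylow p G} {Z : Subgroup G} (h : Hyp P Z)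
include h

open Classical in
theorem bessel [Fintype G] (hM : IsPModular p M) {χ : IrrCharacter G}
    (hχ : χ ∈ principalBlock M G) :
    ∑ u with u ∈ (P : Subgroup G) ∧ u ≠ 1, ‖(χ : G → ℂ) u‖ ^ 2 ≤
      ee P Z * Nat.card (P : Subgroup G) := by
  set U := Finset.univ.filter fun u : G => u ∈ (P : Subgroup G) ∧ u ≠ 1 with hU
  set s := Finset.univ.filter (· ∈ principalBlock M G) with hs
  let c : G → ℕ := fun u => p ^ (Nat.card (centralizer ({u} : Set G))).factorization p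
  have hUP : ∀ u ∈ U, u ∈ (P : Subgroup G) ∧ u ≠ 1 := fun u hu => (Finset.mem_filter.1 hu).2
  have horth : ∀ u ∈ U, ∀ w ∈ U, ∑ ψ ∈ s, (ψ : G → ℂ) w * conj ((ψ : G → ℂ) u) =
      if IsConj u w then (c u : ℂ) else 0 := by
    intro u hu w hw
    have hu' := exists_orderOf_eq_pow_of_mem hp.out P.isPGroup' (hUP u hu).1
    have hw' := exists_orderOf_eq_pow_of_mem hp.out P.isPGroup' (hUP w hw).1
    split_ifs with hc
    · rw [Finset.sum_congr rfl fun ψ _ => by rw [← classFun_isConj (irr_classFun ψ) hc],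
        sum_principal_sq hM hu' (h.hb.npc (P.isPGroup'.to_le (zpowers_le.2 (hUP u hu).1))
          (hUP u hu).2)]
      simp [c]
    · exact block_orth_conj hM (isV_blockIdem hM isPBlock_principalBlock) (isPPart_self hp.out hw')
        (isPPart_self hp.out hu') fun h' => hc h'.symm
  set S := ∑ u ∈ U, ‖(χ : G → ℂ) u‖ ^ 2 with hS
  let v : IrrCharacter G → ℂ := fun ψ => ∑ w ∈ U, conj ((χ : G → ℂ) w) * (ψ : G → ℂ) w
  have hv : v χ = S := by
    simp only [v, hS, Complex.conj_mul']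
    push_cast; rfl
  have h1 : ∑ ψ ∈ s, ‖v ψ‖ ^ 2 =
      ∑ u ∈ U, ‖(χ : G → ℂ) u‖ ^ 2 * (((U.filter (IsConj u)).card * c u : ℕ) : ℝ) := by
    apply Complex.ofReal_injective
    push_cast
    simp only [← Complex.mul_conj']
    have e1 : ∀ ψ, v ψ * conj (v ψ) = ∑ u ∈ U, ∑ w ∈ U, (χ : G → ℂ) u * conj ((χ : G → ℂ) w) *
        ((ψ : G → ℂ) w * conj ((ψ : G → ℂ) u)) := fun ψ => by
      simp only [v, map_sum, map_mul, Complex.conj_conj]
      rw [Finset.sum_mul_sum, Finset.sum_comm]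
      exact Finset.sum_congr rfl fun u _ => Finset.sum_congr rfl fun w _ => by ring
    simp only [e1]
    rw [Finset.sum_comm]
    refine Finset.sum_congr rfl fun u hu => ?_
    rw [Finset.sum_comm, Finset.sum_congr rfl fun w hw => by rw [← Finset.mul_sum, horth u hu w hw],
      Finset.card_filter]
    push_cast
    rw [Finset.sum_mul, Finset.mul_sum]
    refine Finset.sum_congr rfl fun w _ => ?_
    split_ifs with hc
    · rw [classFun_isConj (irr_classFun χ) hc, one_mul]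
    · simp
  have h2 : ∀ u ∈ U, (((U.filter (IsConj u)).card * c u : ℕ) : ℝ) ≤
      ee P Z * Nat.card (P : Subgroup G) := fun u hu => by
    have h3 := h.card_mul_le (hUP u hu).1
    have h4 : (U.filter (IsConj u)).card ≤ Nat.card {w // w ∈ (P : Subgroup G) ∧ IsConj u w} := by
      rw [Nat.card_eq_fintype_card, Fintype.card_subtype]
      refine Finset.card_le_card fun w hw => ?_
      rw [Finset.mem_filter] at hw ⊢
      exact ⟨Finset.mem_univ _, (hUP w hw.1).1, hw.2⟩
    exact_mod_cast (Nat.mul_le_mul_right _ h4).trans h3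
  have h5 : ‖v χ‖ ^ 2 ≤ ∑ ψ ∈ s, ‖v ψ‖ ^ 2 :=
    Finset.single_le_sum (f := fun ψ => ‖v ψ‖ ^ 2) (fun _ _ => by positivity)
      (Finset.mem_filter.2 ⟨Finset.mem_univ _, hχ⟩)
  have hS0 : 0 ≤ S := Finset.sum_nonneg fun _ _ => by positivity
  rw [hv, Complex.norm_real, Real.norm_of_nonneg hS0, h1] at h5
  have h6 := h5.trans (Finset.sum_le_sum fun u hu => mul_le_mul_of_nonneg_left (h2 u hu) (by positivity))
  rw [← Finset.sum_mul, ← hS] at h6
  rcases hS0.eq_or_lt with h7 | h7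
  · rw [← h7]; positivity
  · exact le_of_mul_le_mul_left (by rwa [← sq]) h7

open Classical in
theorem mult_le [Fintype G] [IsSimpleGroup G] (hM : IsPModular p M) {χ : IrrCharacter G}
    (hχ : χ ∈ principalBlock M G) (h1 : χ ≠ oneIrr G) :
    ∃ m : ℕ, ∑ u with u ∈ Z ∧ u ≠ 1, (χ : G → ℂ) u = Nat.card Z * m - charDegree (χ : G → ℂ) ∧
      (Nat.card Z * m ^ 2 : ℝ) ≤ charDegree (χ : G → ℂ) ^ 2 := by
  set N := normalizer ((P : Subgroup G) : Set G)
  obtain ⟨m, hm1, hm2⟩ := norm_lower (Y := Z.subgroupOf P)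
    (fun x hx => mem_center_iff.2 fun u => Subtype.ext (h.comm hx u.2).symm)
    (isChar_res (P : Subgroup G) (irr_isChar χ))
    (fun i : N ⧸ (centralizer (Z : Set G)).subgroupOf N =>
      (P : Subgroup G).normalizerMonoidHom i.out⁻¹)
    (fun i x => irr_classFun χ _ _) (fun i y hy => h.conj_mem (i.out⁻¹).2 hy)
    (fun i j y hy hy1 e => by
      rw [← i.out_eq, ← j.out_eq, QuotientGroup.eq, mem_subgroupOf]
      have e' : ((i.out : N) : G)⁻¹ * y * ((i.out : N) : G)⁻¹⁻¹ =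
          ((j.out : N) : G)⁻¹ * y * ((j.out : N) : G)⁻¹⁻¹ := congrArg Subtype.val e
      have hz := h.conj_mem (x := y) (inv_mem j.out.2) hy
      refine h.semireg (i.out⁻¹ * j.out).2 hz
        (fun e => hy1 (Subtype.ext (conj_eq_one_iff.1 e))) ?_
      rw [coe_mul, InvMemClass.coe_inv]
      nth_rewrite 2 [← e']
      group)
    (by
      obtain ⟨x, hx, hx1⟩ := h.exists_ne
      exact ⟨⟨x, h.le hx⟩, hx, Gp.ne_deg_of_simple h1 hx1⟩)
  have hZ : Nat.card (Z.subgroupOf P) = Nat.card Z := Nat.card_congr (subgroupOfEquivOfLe h.le).toEquiv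
  rw [hZ] at hm1 hm2
  refine ⟨m, ?_, ?_⟩
  · rw [← hm1, irr_degree_cast, eq_sub_iff_add_eq,
      Fintype.sum_equiv (subgroupOfEquivOfLe h.le).toEquiv
        (fun y : Z.subgroupOf P => (χ : G → ℂ) ((y : (P : Subgroup G)) : G))
        (fun y : Z => (χ : G → ℂ) y) fun _ => rfl,
      ← Finset.sum_subtype (Finset.univ.filter (· ∈ Z)) (by simp) (χ : G → ℂ),
      ← Finset.sum_erase_add (a := 1) (Finset.univ.filter (· ∈ Z)) _ (by simp)]
    congr 2
    ext; simp [and_comm]
  · have h2 := h.bessel hM hχ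
    rw [← Finset.sum_subtype (Finset.univ.filter (· ∈ (P : Subgroup G))) (by simp)
      (fun x => ‖(χ : G → ℂ) x‖ ^ 2), ← Finset.sum_erase_add (a := 1) _ _ (by simp),
      ← irr_degree_cast, Complex.norm_natCast] at hm2
    have h3 : (Finset.univ.filter (· ∈ (P : Subgroup G))).erase 1 =
        Finset.univ.filter fun u => u ∈ (P : Subgroup G) ∧ u ≠ 1 := by
      ext; simp [and_comm]
    rw [h3] at hm2
    have h4 : Nat.card (N ⧸ (centralizer (Z : Set G)).subgroupOf N) = ee P Z := rfl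
    rw [h4] at hm2
    linarith

end Hyp

end Cfsg.Agent.Puig
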