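import Mathlib
import Cfsg.Agent.Puig.C

/-!
The class-sum inequality in the principal block.
-/

set_option autoImplicit false

namespace Cfsg.Agent.Puig

open Subgroup Cfsg.Agent.Char Cfsg.Agent.Block Cfsg.Agent.Transfer
open scoped ComplexConjugate

theorem arith {ι : Type*} [DecidableEq ι] (s : Finset ι) (o : ι) (ho : o ∈ s) (d σ : ι → ℝ)
    (z E : ℝ) (hz : 1 < z) (hd : ∀ i ∈ s, 0 < d i)
    (hσ : ∀ i ∈ s, i ≠ o → ∃ m : ℕ, σ i = z * m - d i ∧ z * m ^ 2 ≤ d i ^ 2) (ho1 : σ o = z - 1)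
    (ho2 : d o = 1) (h1 : ∑ i ∈ s, σ i ^ 2 = (z - 1) * E)
    (h2 : (z - 1) * ((z - 1) * E) ≤ 2 * ∑ i ∈ s, σ i ^ 3 / d i) : E ≤ 2 * z + 2 * √z := by
  set r := √z with hr
  have hr2 : r * r = z := Real.mul_self_sqrt (by linarith)
  have hr1 : 1 < r := Real.lt_sqrt_of_sq_lt (by simpa using hz)
  rw [← Finset.add_sum_erase _ _ ho, ho1] at h1 h2
  have hb : ∀ i ∈ s.erase o, σ i ^ 3 / d i ≤ (r - 1) * σ i ^ 2 := by
    intro i hi
    have hi1 := Finset.mem_erase.1 hi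
    obtain ⟨m, e1, e2⟩ := hσ i hi1.2 hi1.1
    have hdi := hd i hi1.2
    have h3 : r * m ≤ d i := by
      refine le_of_sq_le_sq ?_ hdi.le
      calc (r * m) ^ 2 = (r * r) * m ^ 2 := by ring
        _ ≤ _ := by rw [hr2]; exact e2
    have h4 : σ i ≤ (r - 1) * d i := by
      rw [e1, ← hr2]
      nlinarith
    rw [div_le_iff₀ hdi]
    nlinarith [sq_nonneg (σ i)]
  have hs := Finset.sum_le_sum hb
  rw [← Finset.mul_sum] at hs
  rw [ho2, div_one] at h2
  have h5 : ∑ i ∈ s.erase o, σ i ^ 2 = (z - 1) * E - (z - 1) ^ 2 := by linarith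
  rw [h5] at hs
  have h6 : (z - 1) * ((z - 1) * E) ≤ (z - 1) * (2 * ((z - 1) ^ 2 + (r - 1) * (E - (z - 1)))) := by
    linarith
  have h7 := le_of_mul_le_mul_left h6 (by linarith)
  rw [← hr2] at h7 ⊢
  have h8 : (r - 1) * ((r - 1) * E) ≤ (r - 1) * ((r - 1) * (2 * (r * r) + 2 * r)) := by linarith
  exact le_of_mul_le_mul_left (le_of_mul_le_mul_left h8 (by linarith)) (by linarith)

variable {G : Type*} [Group G] [Finite G] {p : ℕ} [hp : Fact p.Prime]

namespace Hyp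

variable {P : Sylow p G} {Z : Subgroup G} (h : Hyp P Z)
include h

theorem ineq [IsSimpleGroup G] (hp2 : p ≠ 2)
    (hc : ∀ x y : G, orderOf x = p → orderOf y = p → IsPSolvable p (closure ({x, y} : Set G))) :
    (ee P Z * Nat.card (P : Subgroup G) : ℝ) ≤ 2 * Nat.card Z + 2 * √(Nat.card Z) := by
  classical
  have := Fintype.ofFinite G
  obtain ⟨M, hM⟩ := exists_isPModular hp.out
  set W := Finset.univ.filter fun u : G => u ∈ Z ∧ u ≠ 1 with hW
  set s := Finset.univ.filter (· ∈ principalBlock M G) with hs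
  set E : ℝ := ee P Z * Nat.card (P : Subgroup G) with hE
  have hWZ : ∀ u ∈ W, u ∈ Z ∧ u ≠ 1 := fun u hu => (Finset.mem_filter.1 hu).2
  have hcW : (W.card : ℝ) = Nat.card Z - 1 := by
    have h1 : W = (Finset.univ.filter (· ∈ Z)).erase 1 := by ext; simp [hW, and_comm]
    rw [h1, Finset.card_erase_of_mem (by simp), Nat.card_eq_fintype_card, Fintype.card_subtype,
      Nat.cast_sub (Finset.card_pos.2 ⟨1, by simp⟩), Nat.cast_one]
  have hΦ : ∀ g x : G, IsPPart p g x → InZ Z x →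
      ∑ u ∈ W, ∑ χ ∈ s, (χ : G → ℂ) g * conj ((χ : G → ℂ) u) =
        ((if p ∣ orderOf g then E else 0 : ℝ) : ℂ) := by
    intro g x hx hxZ
    have h1 : ∀ u ∈ W, ∑ χ ∈ s, (χ : G → ℂ) g * conj ((χ : G → ℂ) u) =
        if IsConj u x then (Nat.card (P : Subgroup G) : ℂ) else 0 := fun u hu => by
      have := Gp.phi_eq hM P (h.le (hWZ u hu).1) (h.le_cz (hWZ u hu).1)
        (h.hb u (h.ord (hWZ u hu).1 (hWZ u hu).2)) hx
      convert this
    rw [Finset.sum_congr rfl h1]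
    split_ifs with hg
    · have hx1 : x ≠ 1 := fun e => (pPart_eq_one_iff hp.out hx).1 e hg
      have h2 := h.card_conj hxZ hx1
      rw [Nat.card_eq_fintype_card, Fintype.card_subtype] at h2
      rw [← Finset.sum_filter, Finset.sum_const, hW, Finset.filter_filter, h2, hE]
      simp
    · rw [(pPart_eq_one_iff hp.out hx).2 hg]
      refine (Finset.sum_eq_zero fun u hu => if_neg ?_).trans Complex.ofReal_zero.symm
      rw [isConj_one_left]
      exact (hWZ u hu).2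
  let D : IrrCharacter G → ℝ := fun χ => charDegree (χ : G → ℂ)
  have hD : ∀ χ : IrrCharacter G, (χ : G → ℂ) 1 = D χ := fun χ => by
    rw [← irr_degree_cast]; simp [D]
  let σ : IrrCharacter G → ℝ := fun χ => (∑ u ∈ W, (χ : G → ℂ) u).re
  have ho : oneIrr G ∈ s := Finset.mem_filter.2 ⟨Finset.mem_univ _, oneIrr_mem_principalBlock hM⟩
  have ho0 : ∑ u ∈ W, (oneIrr G : G → ℂ) u = ((Nat.card Z - 1 : ℝ) : ℂ) := by
    rw [← hcW]
    change ∑ u ∈ W, (1 : ℂ) = _
    simp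
  have hm : ∀ χ ∈ s, χ ≠ oneIrr G → ∃ m : ℕ, ∑ u ∈ W, (χ : G → ℂ) u =
      ((Nat.card Z * m - D χ : ℝ) : ℂ) ∧ (Nat.card Z * m ^ 2 : ℝ) ≤ D χ ^ 2 := fun χ hχ h1 => by
    obtain ⟨m, e1, e2⟩ := h.mult_le hM (Finset.mem_filter.1 hχ).2 h1
    refine ⟨m, ?_, e2⟩
    push_cast [D]
    convert e1
  have hσ : ∀ χ ∈ s, ∑ u ∈ W, (χ : G → ℂ) u = σ χ := fun χ hχ => by
    by_cases h1 : χ = oneIrr G
    · simp only [σ, h1, ho0, Complex.ofReal_re]
    · obtain ⟨m, e1, -⟩ := hm χ hχ h1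
      simp only [σ, e1, Complex.ofReal_re]
  have hz : (1 : ℝ) < Nat.card Z := by exact_mod_cast (one_lt_card_iff_ne_bot Z).2 h.ne
  have hord : ∀ a ∈ W, orderOf a = p := fun a ha => h.ord (hWZ a ha).1 (hWZ a ha).2
  have hE0 : 0 ≤ E := by positivity
  refine arith s (oneIrr G) ho D σ _ E hz
    (fun χ _ => Nat.cast_pos.2 (Nat.pos_of_ne_zero (irr_degree_ne_zero χ))) (fun χ hχ h1 => ?_)
    (by simp only [σ, ho0, Complex.ofReal_re]) ?_ ?_ ?_
  · obtain ⟨m, e1, e2⟩ := hm χ hχ h1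
    exact ⟨m, by simp only [σ, e1, Complex.ofReal_re], e2⟩
  · have : (1 : ℂ) = _ := hD (oneIrr G)
    exact_mod_cast this.symm
  · have h1 : ∑ a ∈ W, ∑ u ∈ W, ∑ χ ∈ s, (χ : G → ℂ) a * conj ((χ : G → ℂ) u) =
        ∑ a ∈ W, (E : ℂ) := Finset.sum_congr rfl fun a ha => by
      rw [hΦ a a (isPPart_self hp.out ⟨1, by rw [hord a ha, pow_one]⟩) (inZ_of_mem (hWZ a ha).1),
        if_pos (by rw [hord a ha])]
    rw [Finset.sum_congr rfl fun a _ => Finset.sum_comm, Finset.sum_comm, Finset.sum_const,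
      nsmul_eq_mul] at h1
    apply Complex.ofReal_injective
    rw [← hcW]
    push_cast
    rw [← h1]
    refine Finset.sum_congr rfl fun χ hχ => ?_
    simp only [← Finset.mul_sum, ← Finset.sum_mul, ← map_sum, hσ χ hχ, Complex.conj_ofReal]
    ring
  have hpm : ∀ g : G, ∀ a ∈ W, ∀ b ∈ W, _ := fun g a ha b hb =>
    h.pair ((inZ_of_mem (hWZ a ha).1).conj g) (inZ_of_mem (hWZ b hb).1)
      (hc _ _ (((MulAut.conj g).orderOf_eq a).trans (hord a ha)) (hord b hb))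
  have htot : ∑ g : G, ∑ a ∈ W, ∑ b ∈ W, (if p ∣ orderOf (g * a * g⁻¹ * b) then E else 0 : ℝ) =
      Nat.card G * ∑ χ ∈ s, σ χ ^ 3 / D χ := by
    apply Complex.ofReal_injective
    have h1 : ∀ g : G, ∀ a ∈ W, ∀ b ∈ W,
        ((if p ∣ orderOf (g * a * g⁻¹ * b) then E else 0 : ℝ) : ℂ) =
        ∑ u ∈ W, ∑ χ ∈ s, (χ : G → ℂ) (g * a * g⁻¹ * b) * conj ((χ : G → ℂ) u) := fun g a ha b hb => by
      obtain ⟨w, hw⟩ := exists_isPPart hp.out (g * a * g⁻¹ * b)
      exact (hΦ _ w hw ((hpm g a ha b hb).1 w hw)).symm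
    rw [Complex.ofReal_sum, Finset.sum_congr rfl fun g _ => by
      rw [Complex.ofReal_sum, Finset.sum_congr rfl fun a ha => by
        rw [Complex.ofReal_sum, Finset.sum_congr rfl fun b hb => h1 g a ha b hb]]]
    have h0 : ∀ a b u : G, ∑ g : G, ∑ χ ∈ s,
        (χ : G → ℂ) (g * a * g⁻¹ * b) * conj ((χ : G → ℂ) u) = _ := fun a b u =>
      Gp.sum_phi_conj (principalBlock M G) a b u
    rw [Finset.sum_comm, Finset.sum_congr rfl fun i _ => by
      rw [Finset.sum_comm, Finset.sum_congr rfl fun j _ => by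
        rw [Finset.sum_comm, Finset.sum_congr rfl fun l _ => h0 i j l]]]
    rw [← hs]
    simp only [← Finset.mul_sum]
    push_cast
    congr 1
    rw [Finset.sum_congr rfl fun i _ => by
      rw [Finset.sum_congr rfl fun j _ => Finset.sum_comm, Finset.sum_comm], Finset.sum_comm]
    refine Finset.sum_congr rfl fun χ hχ => ?_
    simp only [← Finset.sum_div, ← Finset.mul_sum, ← Finset.sum_mul, ← map_sum, hσ χ hχ, hD,
      Complex.conj_ofReal]
    ring
  have hlow : ∀ g : G, ∀ a ∈ W, ((Nat.card Z : ℝ) - 1) * E ≤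
      2 * ∑ b ∈ W, (if p ∣ orderOf (g * a * g⁻¹ * b) then E else 0 : ℝ) := by
    intro g a ha
    have h1 : ∑ b ∈ W, (if p ∣ orderOf (g * a * g⁻¹ * b) then E else 0 : ℝ) =
        ∑ b ∈ W, (if p ∣ orderOf (g * a * g⁻¹ * b⁻¹) then E else 0 : ℝ) :=
      Finset.sum_bijective (fun b => b⁻¹) inv_involutive.bijective (fun b => by simp [hW])
        fun b _ => by rw [inv_inv]
    rw [two_mul]
    nth_rewrite 2 [h1]
    rw [← Finset.sum_add_distrib, ← hcW, ← nsmul_eq_mul, ← Finset.sum_const]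
    refine Finset.sum_le_sum fun b hb => ?_
    split_ifs with h7 h8 h8
    · linarith
    · linarith
    · linarith
    · have h9 := (hpm g a ha b hb).2 h7 h8
      have h10 := orderOf_dvd_of_pow_eq_one ((sq b).trans h9)
      rw [hord b hb] at h10
      exact absurd ((Nat.prime_dvd_prime_iff_eq hp.out Nat.prime_two).1 h10) hp2
  have h6 := Finset.sum_le_sum (s := Finset.univ) fun g _ => Finset.sum_le_sum (hlow g)
  simp only [← Finset.mul_sum] at h6
  rw [htot] at h6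
  simp only [Finset.sum_const, Finset.card_univ, ← Nat.card_eq_fintype_card, nsmul_eq_mul, hcW] at h6
  have h7 : (0 : ℝ) < Nat.card G := by exact_mod_cast Nat.card_pos
  refine le_of_mul_le_mul_left ?_ h7
  linarith

end Hyp

end Cfsg.Agent.Puig
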