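import Mathlib
import Cfsg.Agent.Puig.D
import Cfsg.Agent.Gp.PS4
import Cfsg.Agent.S3347

/-!
The case of an odd prime does not occur in a simple group.
-/

set_option autoImplicit false

namespace Cfsg.Agent.Puig

open Subgroup Cfsg.Agent.Char Cfsg.Agent.Block Cfsg.Agent.Transfer

variable {G : Type*} [Group G] [Finite G] {p : ℕ} [hp : Fact p.Prime]

theorem not_pg [IsSimpleGroup G] (hn : ¬ IsMulCommutative G) : ¬ IsPGroup p G := fun h => by
  haveI := h.isNilpotent
  exact hn ⟨⟨IsSimpleGroup.comm_iff_isSolvable.2 inferInstance⟩⟩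

theorem res_top [IsSimpleGroup G] (hn : ¬ IsMulCommutative G) : pResidual p G = ⊤ :=
  (pResidual_normal (p := p) (G := G)).eq_bot_or_eq_top.resolve_left fun h =>
    not_pg hn (isPGroup_of_pResidual_eq_bot h)

theorem not_npc [IsSimpleGroup G] (hn : ¬ IsMulCommutative G) (hd : p ∣ Nat.card G) :
    ¬ HasNormalPComplement p G := fun h => by
  rw [hasNormalPComplement_iff_not_dvd, res_top hn, card_top] at h
  exact h hd

theorem not_len [IsSimpleGroup G] (hn : ¬ IsMulCommutative G) (P : Sylow p G)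
    (hd : p ∣ Nat.card G) : ¬ PLengthLE p 1 G := fun h => by
  have h1 : pPrimeCore p G = ⊥ := (inferInstance : (pPrimeCore p G).Normal).eq_bot_or_eq_top.resolve_right
    fun e => (Nat.Prime.coprime_iff_not_dvd hp.out).1 (Core.pPrimeCore_eq_top_iff.1 e).symm hd
  rw [Core.pLengthLE_one_iff_normal P, h1, bot_sup_eq] at h
  rcases h.eq_bot_or_eq_top with e | e
  · exact P.ne_bot_of_dvd_card hd e
  · exact not_pg hn ((e ▸ P.isPGroup').of_equiv topEquiv)

namespace Hyp

variable {P : Sylow p G} {Z : Subgroup G} (h : Hyp P Z)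
include h

theorem dvd : p ∣ Nat.card G := by
  obtain ⟨x, hx, h1⟩ := h.exists_ne
  exact h.ord hx h1 ▸ orderOf_dvd_natCard x

theorem odd_false [IsSimpleGroup G] (hn : ¬ IsMulCommutative G) (hp2 : p ≠ 2)
    (hc : ∀ x y : G, orderOf x = p → orderOf y = p → IsPSolvable p (closure ({x, y} : Set G))) :
    False := by
  have hin := h.ineq hp2 hc
  have hnpc := not_npc hn h.dvd
  obtain ⟨x, hx, hx1⟩ := h.exists_ne
  have hz : 1 < Nat.card Z := (one_lt_card_iff_ne_bot Z).2 h.ne
  have hzR : (1 : ℝ) < Nat.card Z := by exact_mod_cast hz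
  have hr2 := Real.mul_self_sqrt (x := (Nat.card Z : ℝ)) (by positivity)
  have hr1 : 1 < √(Nat.card Z : ℝ) := Real.lt_sqrt_of_sq_lt (by simpa using hzR)
  have h4 : ¬ 4 * Nat.card Z ≤ ee P Z * Nat.card (P : Subgroup G) := fun h4 => by
    have : (4 * Nat.card Z : ℝ) ≤ ee P Z * Nat.card (P : Subgroup G) := by exact_mod_cast h4
    nlinarith
  set Y := Z.subgroupOf P
  have hYc : Y ≤ center (P : Subgroup G) := fun x hx =>
    mem_center_iff.2 fun u => Subtype.ext (h.comm hx u.2).symm
  have hq : Nat.card Z * Y.index = Nat.card (P : Subgroup G) := by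
    rw [← Y.card_mul_index, Nat.card_congr (subgroupOfEquivOfLe h.le).toEquiv]
  have he0 : 0 < ee P Z := Nat.pos_of_ne_zero index_ne_zero_of_finite
  obtain ⟨k, hk⟩ := P.isPGroup'.index Y
  have hp3 : 3 ≤ p := by have := hp.out.two_le; omega
  have hab : IsMulCommutative (P : Subgroup G) := by
    by_contra hab
    haveI : Y.Normal := ⟨fun y hy g => by
      rw [mem_center_iff.1 (hYc hy) g, mul_inv_cancel_right]; exact hy⟩
    have hk2 : 2 ≤ k := by
      by_contra hk2
      haveI : IsCyclic ((P : Subgroup G) ⧸ Y) := isCyclic_of_card_dvd_prime (p := p) (by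
        rw [← index_eq_card, hk]
        exact (pow_dvd_pow p (by omega)).trans (pow_one p).dvd)
      exact hab (MonoidHom.isMulCommutative_of_isCyclic_of_ker_le_center (QuotientGroup.mk' Y)
        (by simpa using hYc))
    have h5 : 4 ≤ Y.index := by
      rw [hk]
      calc 4 ≤ p ^ 2 := by nlinarith
        _ ≤ _ := Nat.pow_le_pow_right (by omega) hk2
    refine h4 ?_
    rw [← hq]
    nlinarith
  have hPC : (P : Subgroup G) ≤ centralizer ((P : Subgroup G) : Set G) :=
    le_centralizer_iff_isMulCommutative.2 hab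
  have he2 : 2 ≤ ee P Z := by
    by_contra he
    have he1 : ee P Z = 1 := by omega
    refine hnpc (hasNormalPComplement_of_normalizer_le_centralizer P fun n hn => ?_)
    obtain ⟨t, ht, e⟩ := h.inner hn hx hx1 (mem_centralizer_iff.1 (relIndex_eq_one.1 he1 hn) x hx).symm
    simpa using mul_mem (hPC ht) e
  have hY1 : Y.index = 1 := by
    by_contra hY
    have : 2 ≤ Y.index := by have := Y.index_ne_zero_of_finite; omega
    refine h4 ?_
    rw [← hq]
    calc 4 * Nat.card Z = 2 * (Nat.card Z * 2) := by ring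
      _ ≤ _ := by gcongr
  have hZP : Z = P := le_antisymm h.le (subgroupOf_eq_top.1 (index_eq_one.1 hY1))
  rcases he2.eq_or_lt with he | he
  · by_cases hcy : IsCyclic (P : Subgroup G)
    · exact Gp.not_simple_of_pairs P hcy (hZP ▸ h.ne) hnpc hc
    · rcases S3347.result p hp2 P hab hcy (by rw [ee, hZP] at he; exact he.symm) with h5 | h5
      · exact h5 (res_top hn)
      · exact not_len hn P h.dvd h5
  · have h5 : ee P Z < Nat.card Z := by
      rw [← h.card_conj (inZ_of_mem hx) hx1]
      classical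
      have := Fintype.ofFinite G
      rw [Nat.card_eq_fintype_card, Nat.card_eq_fintype_card]
      refine Fintype.card_lt_of_injective_of_notMem (b := (1 : Z))
        (fun u => (⟨u.1, u.2.1.1⟩ : Z)) (fun u v e => Subtype.ext (congrArg Subtype.val e :)) ?_
      rintro ⟨u, e⟩
      exact u.2.1.2 (congrArg Subtype.val e)
    obtain ⟨j, hj⟩ := (P.isPGroup'.to_le h.le).exists_card_eq
    have h6 : Odd (Nat.card Z) := hj ▸ (hp.out.odd_of_ne_two hp2).pow
    have h7 : 5 ≤ Nat.card Z := by obtain ⟨c, hc⟩ := h6; omega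
    rw [← hq, hY1, mul_one] at hin
    have h8 : (3 : ℝ) ≤ ee P Z := by exact_mod_cast he
    have h9 : (5 : ℝ) ≤ Nat.card Z := by exact_mod_cast h7
    have h10 : (Nat.card Z : ℝ) ≤ 2 * √(Nat.card Z : ℝ) := by nlinarith
    have h11 : √(Nat.card Z : ℝ) ≤ 2 := by nlinarith
    nlinarith

end Hyp

end Cfsg.Agent.Puig
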