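import Mathlib
import Cfsg.Agent.Puig.E
import Cfsg.Agent.Transfer.Factorization
import Cfsg.Agent.GsC.Alm

/-!
Reduction to an almost simple group whose socle contains the Sylow subgroup.
-/

set_option autoImplicit false

namespace Cfsg.Agent.Puig

open Subgroup Cfsg.Agent.Char Cfsg.Agent.Block Cfsg.Agent.Transfer

variable {G : Type*} [Group G] [Finite G] {p : ℕ} [hp : Fact p.Prime]

/-- The normalizer of `P` controls the fusion of elements of `P`. -/
def HA (P : Sylow p G) : Prop :=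
  ∀ x ∈ (P : Subgroup G), ∀ y ∈ (P : Subgroup G), (∃ g : G, g * x * g⁻¹ = y) →
    ∃ n ∈ normalizer ((P : Subgroup G) : Set G), n * x * n⁻¹ = y

theorem hyp_inf {P : Sylow p G} (ha : HA P) (hb : HB p G) (N : Subgroup G) [hN : N.Normal]
    (h0 : (P : Subgroup G) ⊓ N ≠ ⊥) :
    Hyp P (((P : Subgroup G) ⊓ N) ⊓ omegaOneCenter p (P : Subgroup G)) where
  le := inf_le_left.trans inf_le_left
  cent := fun u hu => mem_centralizer_iff.2 fun x hx =>
    (mem_centralizer_iff.1 (mem_omegaOneCenter_iff.1 hx.2).2.1 u hu).symm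
  pow := fun x hx => (mem_omegaOneCenter_iff.1 hx.2).2.2
  ne := inf_omegaOneCenter_ne_bot P.isPGroup' inf_le_left (fun u hu => mem_normalizer_fintype
    fun x hx => mem_inf.2 ⟨mul_mem (mul_mem hu (mem_inf.1 hx).1) (inv_mem hu), hN.conj_mem x hx.2 u⟩) h0
  sc := fun x hx g hg => by
    obtain ⟨n, hn, e⟩ := ha x hx.1.1 _ hg ⟨g, rfl⟩
    obtain ⟨-, h2, h3⟩ := mem_omegaOneCenter_iff.1 hx.2
    refine ⟨⟨hg, hN.conj_mem x hx.1.2 g⟩, mem_omegaOneCenter_iff.2 ⟨hg, ?_, ?_⟩⟩
    · rw [← e]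
      refine mem_centralizer_iff.2 fun u hu => ?_
      have := mem_centralizer_iff.1 h2 _ ((mem_normalizer_iff.1 (inv_mem hn) u).1 hu)
      calc u * (n * x * n⁻¹) = n * (n⁻¹ * u * n⁻¹⁻¹ * x) * n⁻¹ := by group
        _ = _ := by rw [this]; group
    · rw [conj_pow, h3]; simp
  hb := hb

theorem bot_of_not_dvd (hcore : pPrimeCore p G = ⊥) {N : Subgroup G} (hN : N.Normal)
    (h : ¬ p ∣ Nat.card N) : N = ⊥ :=
  Core.pPrimeCore_eq_bot_iff.1 hcore N hN ((Nat.Prime.coprime_iff_not_dvd hp.out).2 h).symm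

theorem pCore_bot (hcore : pPrimeCore p G = ⊥) {P : Sylow p G} (hnn : ¬ (P : Subgroup G).Normal)
    (ha : HA P) (hb : HB p G) : pCore p G = ⊥ := by
  by_contra h0
  have hle := Core.pCore_le_sylow P
  have h := hyp_inf ha hb (pCore p G) (by rwa [inf_eq_right.2 hle])
  obtain ⟨x, hx, hx1⟩ := h.exists_ne
  have hK := hb x (h.ord hx hx1)
  set C := centralizer (pCore p G : Set G)
  have hC : HasNormalPComplement p C :=
    hasNormalPComplement_of_le (centralizer_le (Set.singleton_subset_iff.2 hx.1.2)) hK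
  have h1 : (pResidual p C).map C.subtype = ⊥ := bot_of_not_dvd hcore inferInstance (by
    rw [card_map_of_injective C.subtype_injective]
    exact hasNormalPComplement_iff_not_dvd.1 hC)
  have h2 : centralizer ({x} : Set G) ≤ (P : Subgroup G) := fun k hk => by
    obtain ⟨o, ho, t, ht, rfl, hop, hoc⟩ := decomp P (h.le_cz hx) hK hk
    have h3 : o ∈ C := mem_centralizer_iff.2 fun u hu => by
      have := eq_one_of_isPGroup_of_not_dvd hp.out (Core.pCore_isPGroup p)
        (mul_mem ((inferInstance : (pCore p G).Normal).conj_mem u hu o) (inv_mem hu))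
        (hoc u (h.le_cz hx (hle hu)))
      rw [mul_inv_eq_one, mul_inv_eq_iff_eq_mul] at this
      exact this.symm
    have h4 : o ∈ (pResidual p C).map C.subtype := ⟨⟨o, h3⟩, mem_pResidual_of_coprime (by
      rw [← Subgroup.orderOf_coe]
      exact ((Nat.Prime.coprime_iff_not_dvd hp.out).2 hop).symm), rfl⟩
    rw [h1, mem_bot] at h4
    rw [h4, one_mul]
    exact ht
  refine hnn (normalizer_eq_top_iff.1 (eq_top_iff.2 fun g _ => ?_))
  obtain ⟨n, hn, e⟩ := ha x hx.1.1 _
    (hle ((inferInstance : (pCore p G).Normal).conj_mem x hx.1.2 g)) ⟨g, rfl⟩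
  have h5 : n⁻¹ * g ∈ centralizer ({x} : Set G) := mem_centralizer_singleton_iff.2 (by
    calc n⁻¹ * g * x = n⁻¹ * (g * x * g⁻¹) * g := by group
      _ = _ := by rw [← e]; group)
  simpa using mul_mem hn (le_normalizer (h2 h5))

theorem HB.no_cent (hb : HB p G) {T : Type*} [Group T] [Finite T] [IsSimpleGroup T]
    (hn : ¬ IsMulCommutative T) (hd : p ∣ Nat.card T) (f : T →* G) (hf : Function.Injective f)
    {x : G} (hx : orderOf x = p) (hc : ∀ t, f t * x = x * f t) : False :=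
  not_npc hn hd (hasNormalPComplement_of_injective
    (f.codRestrict (centralizer ({x} : Set G)) fun t => mem_centralizer_singleton_iff.2 (hc t))
    (fun _ _ e => hf (congrArg Subtype.val e)) (hb x hx))

theorem exists_as [Nontrivial G] (hcore : pPrimeCore p G = ⊥) (h0 : pCore p G = ⊥) (hb : HB p G) :
    ∃ L : Subgroup G, Gs.AS L ∧ p ∣ Nat.card L := by
  obtain ⟨N, hN, h1, -, hmin⟩ := Core.exists_minimal_normal_le (⊤ : Subgroup G) top_ne_bot
  have hd : p ∣ Nat.card N := by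
    by_contra h
    exact h1 (bot_of_not_dvd hcore hN h)
  have hpg : ¬ IsPGroup p N := fun h => h1 (Core.pCore_eq_bot_iff.1 h0 N hN h)
  obtain ⟨T, _, m, hT, hm, ⟨e⟩⟩ := Perm.minimal_normal_equiv_pi N h1 hmin
  have hcard : Nat.card N = Nat.card T ^ m := by simp [Nat.card_congr e.toEquiv, Nat.card_fun]
  haveI : Finite T := Nat.finite_of_card_ne_zero fun h => by
    rw [h, zero_pow hm.ne'] at hcard
    exact Nat.card_pos.ne' hcard
  have hdT : p ∣ Nat.card T := hp.out.dvd_of_dvd_pow (hcard ▸ hd)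
  have hTn : ¬ IsMulCommutative T := fun h => hpg (IsPGroup.of_card (n := m) (by
    open scoped IsMulCommutative in
    rw [hcard, (Nat.prime_dvd_prime_iff_eq hp.out IsSimpleGroup.prime_card).1 hdT]))
  let f : Fin m → T →* G := fun i => N.subtype.comp (e.symm.toMonoidHom.comp
    (MonoidHom.mulSingle (fun _ : Fin m => T) i))
  have hf : ∀ i, Function.Injective (f i) := fun i => N.subtype_injective.comp
    (e.symm.injective.comp (Pi.mulSingle_injective (M := fun _ : Fin m => T) i))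
  obtain rfl : m = 1 := by
    by_contra hm1
    obtain ⟨t, ht⟩ := exists_prime_orderOf_dvd_card' p hdT
    refine hb.no_cent hTn hdT (f ⟨0, hm⟩) (hf _) (x := f ⟨1, by omega⟩ t)
      ((orderOf_injective _ (hf _) t).trans ht) fun a => ?_
    exact (((Pi.mulSingle_commute (f := fun _ => T) (by simp) a t).map e.symm).map N.subtype).eq
  let e' := e.trans (MulEquiv.piUnique fun _ => T)
  haveI := e'.isSimpleGroup
  have hNn := GsC.nab_of_equiv e' hTn
  refine ⟨N, ⟨hN, inferInstance, hNn, bot_of_not_dvd hcore inferInstance fun h => ?_⟩, hd⟩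
  obtain ⟨x, hx⟩ := exists_prime_orderOf_dvd_card' p h
  exact hb.no_cent hNn hd N.subtype N.subtype_injective (x := x) (by rw [Subgroup.orderOf_coe, hx])
    fun t => mem_centralizer_iff.1 x.2 t t.2

theorem Hyp.sub {P : Sylow p G} {Z L : Subgroup G} (h : Hyp P Z) (hZ : Z ≤ L) {Q : Sylow p L}
    (hQ : (Q : Subgroup L) = (P : Subgroup G).subgroupOf L) : Hyp Q (Z.subgroupOf L) where
  le := fun x hx => by rw [hQ]; exact h.le hx
  cent := fun u hu => mem_centralizer_iff.2 fun x hx => by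
    rw [hQ] at hu
    exact Subtype.ext (h.comm hx hu)
  pow := fun x hx => Subtype.ext (h.pow _ hx)
  ne := by
    obtain ⟨x, hx, h1⟩ := h.exists_ne
    intro e
    have : (⟨x, hZ hx⟩ : L) ∈ Z.subgroupOf L := hx
    rw [e, mem_bot] at this
    exact h1 (congrArg Subtype.val this)
  sc := fun x hx g hg => by
    rw [hQ] at hg
    exact h.sc _ hx g hg
  hb := h.hb.sub L

theorem Hyp.le_of {P : Sylow p G} {Z L : Subgroup G} (h : Hyp P Z) (hZ : Z ≤ L) [hL : L.Normal]
    (hn : ¬ HasNormalPComplement p L) : (P : Subgroup G) ≤ L := by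
  obtain ⟨Q, hQ⟩ := exists_sylow_eq_subgroupOf P L
  obtain ⟨n, hn1, hn2⟩ := SetLike.not_le_iff_exists.1 (mt (h.sub hZ hQ).npc_of_norm hn)
  have hn3 : (n : G) ∈ normalizer (Z : Set G) := mem_normalizer_fintype fun x hx =>
    (mem_normalizer_iff.1 hn1 ⟨x, hZ hx⟩).1 hx
  have hn4 : (n : G) ∉ centralizer (Z : Set G) := fun hc => hn2 (mem_centralizer_iff.2 fun x hx =>
    Subtype.ext (mem_centralizer_iff.1 hc x hx))
  obtain ⟨c, hc, m, hm, e⟩ := h.frattini hn3
  obtain ⟨o, ho, t, ht, rfl, -, hoc⟩ := decomp P h.cent h.npcZ hc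
  set m' := t * m with hm'
  have hm1 : m' ∈ normalizer ((P : Subgroup G) : Set G) := mul_mem (le_normalizer ht) hm
  have hm2 : m' ∉ centralizer (Z : Set G) := fun hc' => hn4 (by
    rw [e, mul_assoc]; exact mul_mem ho hc')
  let π := QuotientGroup.mk' L
  have hm3 : ∀ u ∈ (P : Subgroup G), Commute (π m') (π u) := fun u hu => by
    have h1 := (mem_normalizer_iff.1 hm1 u).1 hu
    have h2 : π n = 1 := (QuotientGroup.eq_one_iff _).2 n.2
    have h3 : π (m' * u * m'⁻¹ * u⁻¹) = (π (o * (m' * u * m'⁻¹) * o⁻¹ * (m' * u * m'⁻¹)⁻¹))⁻¹ := by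
      rw [eq_comm, inv_eq_iff_mul_eq_one, ← map_mul]
      have : o * (m' * u * m'⁻¹) * o⁻¹ * (m' * u * m'⁻¹)⁻¹ * (m' * u * m'⁻¹ * u⁻¹) =
          n * u * (n : G)⁻¹ * u⁻¹ := by rw [e, hm']; group
      rw [this]; simp [h2]
    have h4 := eq_one_of_isPGroup_of_not_dvd hp.out (P.isPGroup'.map π)
      ⟨_, mul_mem h1 (inv_mem hu), rfl⟩ (by
        rw [h3, orderOf_inv]
        exact fun hd => hoc _ (h.cent h1) (hd.trans (orderOf_map_dvd _ _)))
    simp only [map_mul, map_inv] at h4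
    exact commutatorElement_eq_one_iff_commute.1 h4
  obtain ⟨s, hs⟩ := exists_isPPart hp.out m'
  have hs1 : s ∈ normalizer ((P : Subgroup G) : Set G) := pPart_mem hp.out hs hm1
  have hs2 : s ∈ (P : Subgroup G) :=
    (LocalEven.isSylowIn_top P).le_of_le_normalizer' le_top (pPart_isPGroup hs) (zpowers_le.2 hs1)
      (mem_zpowers s)
  set y := s⁻¹ * m' with hy
  have hy1 : y ∈ normalizer ((P : Subgroup G) : Set G) := mul_mem (inv_mem hs1) hm1
  have hy2 : ∀ u ∈ (P : Subgroup G), y * u = u * y → u = 1 := fun u hu hc' => by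
    by_contra h1
    refine hm2 ?_
    have : y ∈ centralizer (Z : Set G) := mem_centralizer_iff.2 fun z hz =>
      (h.hb.fpf P hy1 (pPart_regular hs) hu h1 hc' (h.le hz) (h.comm hz hu)).symm
    simpa [hy] using mul_mem (h.cent hs2) this
  have hy3 : ∀ u ∈ (P : Subgroup G), y * u * y⁻¹ * u⁻¹ ∈ L := fun u hu => by
    obtain ⟨k, hk⟩ := mul_mem (inv_mem (pPart_mem_zpowers hp.out hs)) (mem_zpowers m')
    have h1 : Commute (π y) (π u) := by
      rw [hy, ← hk, map_zpow]; exact (hm3 u hu).zpow_left k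
    rw [← QuotientGroup.eq_one_iff]
    change π _ = 1
    simp only [map_mul, map_inv]
    exact commutatorElement_eq_one_iff_commute.2 h1
  intro v hv
  obtain ⟨u, hu⟩ := Finite.surjective_of_injective (f := fun u : (P : Subgroup G) =>
    (⟨y * u * y⁻¹ * (u : G)⁻¹, mul_mem ((mem_normalizer_iff.1 hy1 u).1 u.2) (inv_mem u.2)⟩ :
      (P : Subgroup G))) (fun u w e' => by
      have e1 : y * u * y⁻¹ * (u : G)⁻¹ = y * w * y⁻¹ * (w : G)⁻¹ := congrArg Subtype.val e'
      have := hy2 ((w : G)⁻¹ * u) (mul_mem (inv_mem w.2) u.2) (by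
        calc y * ((w : G)⁻¹ * u) = y * (w : G)⁻¹ * y⁻¹ * (y * u * y⁻¹ * (u : G)⁻¹) * u * y := by group
          _ = _ := by rw [e1]; group)
      exact Subtype.ext (inv_mul_eq_one.1 this).symm) ⟨v, hv⟩
  have : y * u * y⁻¹ * (u : G)⁻¹ = v := congrArg Subtype.val hu
  exact this ▸ hy3 u u.2

end Cfsg.Agent.Puig
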