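import Mathlib
import Cfsg.Agent.Puig.F
import Cfsg.Agent.Fil.H
import Cfsg.Agent.Fil.G

/-!
The prime two: only the Suzuki groups remain.
-/

set_option autoImplicit false

namespace Cfsg.Agent.Puig

open Subgroup Cfsg.Agent.Block Cfsg.Agent.Transfer Cfsg.Agent.Gs Cfsg.Agent.LocalEven

variable {G : Type*} [Group G] [Finite G]

theorem Hyp.sc2 {P : Sylow 2 G} {Z : Subgroup G} (h : Hyp P Z) : SC Z where
  sq := fun a ha => (sq a).symm.trans (h.pow a ha)
  cl := fun Q hQ hZ a ha g hg => by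
    obtain ⟨k, hk⟩ := exists_conj_le P hQ
    have h1 : k ∈ normalizer (Z : Set G) :=
      mem_normalizer_fintype fun x hx => h.sc x hx k (hk x (hZ hx))
    exact (mem_normalizer_iff.1 h1 _).2 (h.mem_of_inZ (((inZ_of_mem ha).conj g).conj k) (hk _ hg))

theorem two_case (P : Sylow 2 G) {L : Subgroup G} (hL : AS L) (hPL : (P : Subgroup G) ≤ L)
    (hb : HB 2 G) (hg : Gold L)
    (hd : ¬ ((∀ x ∈ (P : Subgroup G), x * x = 1) ∧
      ∀ x ∈ (P : Subgroup G), ∀ y ∈ (P : Subgroup G), x ≠ 1 → y ≠ 1 → ∃ g : G, g * x * g⁻¹ = y)) :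
    Lie.IsoSuzuki G := by
  have hT : IsSylowIn 2 (P : Subgroup G) L := isSylowIn_of_sylow_le P hPL
  rcases hg with hS | ⟨-, h4⟩ | hJ
  rotate_left
  · have hF := hL.fd h4 hT
    obtain ⟨x, -, -, hx⟩ := hF.exists_three
    refine absurd ⟨hF.sq, fun a ha b hb a1 b1 => ?_⟩ hd
    obtain ⟨y, -, e⟩ := hx a ha b hb a1 b1
    exact ⟨y, e⟩
  · refine absurd ⟨fun x hx => congrArg Subtype.val (hJ.elem hT.toSylow ⟨x, hPL hx⟩ hx),
      fun a ha b hb a1 b1 => ?_⟩ hd
    obtain ⟨y, -, e⟩ := hJ.conj hT.toSylow ⟨a, hPL ha⟩ ha ⟨b, hPL hb⟩ hb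
      (fun e => a1 (congrArg Subtype.val e)) fun e => b1 (congrArg Subtype.val e)
    exact ⟨y, congrArg Subtype.val e⟩
  obtain ⟨V, H, h⟩ := hL.exists_BD hS hT
  have h4 := h.four
  have hV : Hyp P V :=
    { le := h.le
      cent := h.central
      pow := fun x hx => (sq x).trans (h.sq x hx)
      ne := (one_lt_card_iff_ne_bot V).1 (by omega)
      sc := fun x hx g hg => h.omega _ hg (by rw [← sq, conj_pow, sq, h.sq x hx]; simp)
      hb := hb }
  obtain ⟨v, hv, v1⟩ := hV.exists_ne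
  have key : ∀ n ∈ normalizer ((P : Subgroup G) : Set G), ∀ w ∈ V, w ≠ 1 → n * w = w * n →
      n ∈ (P : Subgroup G) := fun n hn w hw w1 hc => by
    obtain ⟨t, ht, e⟩ := hV.inner hn hw w1 hc
    simpa using mul_mem ht (h.cent e)
  rcases h.cases with e | ⟨hcm, ⟨hc, -⟩ | ⟨hc, y, hy, hyf, -⟩⟩
  · refine absurd ⟨e ▸ h.sq, fun a ha b hb a1 b1 => ?_⟩ hd
    obtain ⟨y, -, e'⟩ := h.trans a (e ▸ ha) b (e ▸ hb) a1 b1
    exact ⟨y, e'⟩
  · obtain rfl : L = ⊤ := eq_top_iff.2 fun g _ => by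
      obtain ⟨l, hl, n, hn, rfl⟩ := hT.frattini (hL.norm g)
      obtain ⟨x, hx, e⟩ := h.trans v hv _ (hV.conj_mem hn hv) v1 (by simpa using v1)
      have h1 := key _ (mul_mem (inv_mem (h.H_le hx).2) hn) v hv v1 (by
        calc x⁻¹ * n * v = x⁻¹ * (n * v * n⁻¹) * n := by group
          _ = _ := by rw [← e]; group)
      refine mul_mem hl ?_
      simpa using mul_mem (h.H_le hx).1 (hPL h1)
    haveI := hL.simple
    rcases GsC.se_cases hS with h1 | ⟨F, _, _, m, h1, h2, ⟨e⟩⟩ | h1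
    · have h2 := Fil.l2e_ab h1 ((P : Subgroup G).subgroupOf ⊤) P.isPGroup'.comap_subtype
      refine absurd (hcm.symm.trans (commutator_eq_bot_iff_le_centralizer.2 fun a ha =>
        mem_centralizer_iff.2 fun b hb => ?_)) hV.ne
      exact congrArg (fun z : (P : Subgroup G).subgroupOf ⊤ => ((z : (⊤ : Subgroup G)) : G))
        (h2.is_comm.comm ⟨⟨b, trivial⟩, hb⟩ ⟨⟨a, trivial⟩, ha⟩)
    · exact ⟨F, _, _, m, h1, h2, ⟨topEquiv.symm.trans e⟩⟩
    · exfalso
      obtain ⟨x, y, ⟨k, hk⟩, h2, h3⟩ := Fil.u3e_real h1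
      obtain ⟨g, hg⟩ := exists_conj_le P (LocalEven.isPGroup_zpowers (x := (x : G))
        (congrArg Subtype.val hk))
      have hx := hg _ (mem_zpowers _)
      set a := g * x * g⁻¹ with ha
      set b := g * y * g⁻¹ with hb'
      have h5 : b * a * b⁻¹ = a⁻¹ := by
        have : (y : G) * x * (y : G)⁻¹ = (x : G)⁻¹ := congrArg Subtype.val h2
        calc b * a * b⁻¹ = g * (y * x * (y : G)⁻¹) * g⁻¹ := by rw [ha, hb']; group
          _ = _ := by rw [this, ha]; group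
      have h6 : a * a ≠ 1 := fun e => h3 (Subtype.ext (by
        rw [ha, ← sq, conj_pow, conj_eq_one_iff, sq] at e
        exact e))
      have h7 := h.ti a hx (fun e => h6 (by simp [e])) b (h5 ▸ inv_mem hx)
      have h8 := h.sq_mem a hx
      have h9 := key b h7 _ h8 h6 (by
        rw [← mul_inv_eq_iff_eq_mul, ← sq, ← conj_pow, h5, inv_pow, sq,
          inv_eq_iff_mul_eq_one, h.sq _ h8])
      have h10 := h.sq_inj hc (mul_mem h9 hx) h9 (by
        have := hV.comm (h.sq_mem b h9) hx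
        calc b * a * (b * a) = b * a * b⁻¹ * (b * b * a) := by group
          _ = _ := by rw [h5, this]; group)
      rw [h5, inv_mem_iff] at h10
      exact h6 (h.sq a h10)
  · exfalso
    have h1 : (P : Subgroup G) ≤ V := fun t ht => hyf t ht (by
      rw [hb.fpf P (h.H_le hy.1).2 (fun hd => (Nat.not_even_iff_odd.2 h.odd) (even_iff_two_dvd.2
        (hd.trans (Subgroup.orderOf_dvd_natCard _ hy.1)))) (h.le hv) v1
        (mem_centralizer_iff.1 hy.2 v hv).symm ht (hV.comm hv ht).symm]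
      simp)
    have h2 := card_le_of_le h1
    rw [hc] at h2
    nlinarith [Nat.pow_le_pow_left h4 2]

theorem main {p : ℕ} [hp : Fact p.Prime] (hcore : pPrimeCore p G = ⊥) (P : Sylow p G)
    (hnn : ¬ (P : Subgroup G).Normal) (ha : HA P) (hb : HB p G)
    (hc : ∀ x y : G, orderOf x = p → orderOf y = p → IsPSolvable p (closure ({x, y} : Set G)))
    (hd : ¬ (p = 2 ∧ IsElementaryAbelian 2 (P : Subgroup G) ∧
      ∀ x ∈ (P : Subgroup G), ∀ y ∈ (P : Subgroup G), x ≠ 1 → y ≠ 1 → ∃ g : G, g * x * g⁻¹ = y)) :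
    p = 2 ∧ Lie.IsoSuzuki G := by
  haveI : Nontrivial G := by
    by_contra hn
    rw [not_nontrivial_iff_subsingleton] at hn
    exact hnn (Subsingleton.elim ⊤ (P : Subgroup G) ▸ inferInstance)
  obtain ⟨L, hL, hdL⟩ := exists_as hcore (pCore_bot hcore hnn ha hb) hb
  haveI := hL.normal
  haveI := hL.simple
  obtain ⟨Q, hQ⟩ := exists_sylow_eq_subgroupOf P L
  have h := hyp_inf ha hb L fun e => Q.ne_bot_of_dvd_card hdL (by
    rw [hQ, subgroupOf_eq_bot, disjoint_iff, e])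
  have hZ : ((P : Subgroup G) ⊓ L) ⊓ omegaOneCenter p (P : Subgroup G) ≤ L :=
    inf_le_left.trans inf_le_right
  have h' := h.sub hZ hQ
  obtain rfl : p = 2 := by
    by_contra hp2
    refine h'.odd_false hL.nab hp2 fun x y hx hy => ?_
    have := hc x y (by rw [Subgroup.orderOf_coe, hx]) (by rw [Subgroup.orderOf_coe, hy])
    have e : closure ({(x : G), (y : G)} : Set G) = (closure ({x, y} : Set L)).map L.subtype := by
      rw [MonoidHom.map_closure, Set.image_pair]; rfl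
    rw [e] at this
    exact Core.IsPSolvable.of_mulEquiv this (equivMapOfInjective _ _ L.subtype_injective).symm
  refine ⟨rfl, two_case P hL (h.le_of hZ (not_npc hL.nab hdL)) hb (gold hL.nab h'.sc2 h'.ne)
    fun ⟨h1, h2⟩ => hd ⟨rfl, ⟨⟨⟨fun a b => Subtype.ext ?_⟩⟩, fun a ha => (sq a).trans (h1 a ha)⟩, h2⟩⟩
  have h3 := eq_inv_of_mul_eq_one_left (h1 _ (mul_mem a.2 b.2))
  rw [coe_mul, coe_mul, h3, mul_inv_rev, inv_eq_of_mul_eq_one_right (h1 _ a.2),
    inv_eq_of_mul_eq_one_right (h1 _ b.2)]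

end Cfsg.Agent.Puig
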